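import Mathlib.LinearAlgebra.Matrix.GeneralLinearGroup.Defs
import Mathlib.LinearAlgebra.Matrix.Adjugate
import Mathlib.LinearAlgebra.Matrix.ToLinearEquiv
import Mathlib.LinearAlgebra.Matrix.NonsingularInverse
import Mathlib.GroupTheory.OrderOfElement
import Mathlib.Tactic

/-!
# Finite subgroups of `GL₂(ℤ)`
-/

open Matrix

namespace Groth.Agent.BddFinLib

/-- The Cayley–Hamilton relation in size two. -/
theorem sq_eq (A : Matrix (Fin 2) (Fin 2) ℤ) : A * A = A.trace • A - A.det • 1 := by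
  ext i j
  simp only [Matrix.sub_apply, Matrix.smul_apply, smul_eq_mul, Matrix.mul_apply, Fin.sum_univ_two, Matrix.one_apply,
    Matrix.det_fin_two, Matrix.trace_fin_two]
  fin_cases i <;> fin_cases j <;> simp <;> ring

theorem det_sub_one (A : Matrix (Fin 2) (Fin 2) ℤ) : (A - 1).det = A.det - A.trace + 1 := by
  simp [Matrix.det_fin_two, Matrix.trace]; ring

theorem abs_trace_le (A : Matrix (Fin 2) (Fin 2) ℤ) (hd : A.det = 1 ∨ A.det = -1) (k : ℕ) (hk : 0 < k) (h : A ^ k = 1) :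
    |A.trace| ≤ 2 := by
  by_contra hcon
  push Not at hcon
  have hrec : ∀ j, (A ^ (j + 2)).trace = A.trace * (A ^ (j + 1)).trace - A.det * (A ^ j).trace := fun j => by
    rw [pow_add, pow_two, sq_eq, mul_sub, mul_smul_comm, mul_smul_comm, mul_one, ← pow_succ, Matrix.trace_sub,
      Matrix.trace_smul, Matrix.trace_smul, smul_eq_mul, smul_eq_mul]
  have hgrow : ∀ j, |(A ^ j).trace| < |(A ^ (j + 1)).trace| := by
    intro j
    induction j with
    | zero =>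
      rw [pow_zero, zero_add, pow_one, Matrix.trace_one, Fintype.card_fin]
      simpa using hcon
    | succ j ih =>
      rw [hrec j]
      have h1 : |A.det * (A ^ j).trace| = |(A ^ j).trace| := by
        rcases hd with hd | hd <;> rw [hd] <;> simp
      have h2 := abs_sub_abs_le_abs_sub (A.trace * (A ^ (j + 1)).trace) (A.det * (A ^ j).trace)
      rw [h1, abs_mul] at h2
      have h3 : 3 * |(A ^ (j + 1)).trace| ≤ |A.trace| * |(A ^ (j + 1)).trace| :=
        mul_le_mul_of_nonneg_right hcon (abs_nonneg _)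
      linarith [abs_nonneg (A ^ (j + 1)).trace]
  have : StrictMono fun j => |(A ^ j).trace| := strictMono_nat_of_lt_succ hgrow
  have := this hk
  simp only [h, pow_zero] at this
  exact this.false

theorem eq_one_of_det_one (A : Matrix (Fin 2) (Fin 2) ℤ) (hA : A.det = 1) (k : ℕ) (hk : 0 < k) (h : A ^ k = 1)
    (v : Fin 2 → ℤ) (hv : v ≠ 0) (hfix : A *ᵥ v = v) : A = 1 := by
  have h0 : (A - 1).det = 0 :=
    Matrix.exists_mulVec_eq_zero_iff.1 ⟨v, hv, by rw [Matrix.sub_mulVec, hfix, Matrix.one_mulVec, sub_self]⟩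
  rw [det_sub_one, hA] at h0
  have hN : (A - 1) * (A - 1) = 0 := by
    rw [mul_sub, sub_mul, sub_mul, sq_eq, hA, show A.trace = 2 by linarith]
    simp only [one_mul, mul_one, one_smul]
    rw [two_smul]; abel
  have hp : ∀ j : ℕ, A ^ j = 1 + j • (A - 1) := by
    intro j
    induction j with
    | zero => simp
    | succ j ih =>
      calc A ^ (j + 1) = (1 + j • (A - 1)) * A := by rw [pow_succ, ih]
        _ = (1 + j • (A - 1)) * ((A - 1) + 1) := by rw [sub_add_cancel]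
        _ = 1 + (j + 1) • (A - 1) := by
            rw [mul_add, add_mul, mul_one, one_mul, smul_mul_assoc, hN, smul_zero, add_zero, succ_nsmul]; abel
  have := hp k
  rw [h, left_eq_add] at this
  ext i j
  have h2 := congrFun (congrFun this i) j
  simp only [Matrix.smul_apply, Matrix.zero_apply, Matrix.sub_apply, nsmul_eq_mul, mul_eq_zero, Nat.cast_eq_zero] at h2
  exact sub_eq_zero.1 (h2.resolve_left hk.ne')

theorem exists_fixed (Γ : Subgroup (GL (Fin 2) ℤ)) [Finite Γ]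
    (h : ∀ γ ∈ Γ, ∃ v : Fin 2 → ℤ, v ≠ 0 ∧ (γ : Matrix (Fin 2) (Fin 2) ℤ) *ᵥ v = v) :
    ∃ v : Fin 2 → ℤ, v ≠ 0 ∧ ∀ γ ∈ Γ, (γ : Matrix (Fin 2) (Fin 2) ℤ) *ᵥ v = v := by
  have hone : ∀ γ ∈ Γ, (γ : Matrix (Fin 2) (Fin 2) ℤ).det = 1 → γ = 1 := fun γ hγ hd => by
    obtain ⟨v, hv, hfix⟩ := h γ hγ
    have hfo : IsOfFinOrder γ := Submonoid.isOfFinOrder_coe.2 (isOfFinOrder_of_finite (⟨γ, hγ⟩ : Γ))
    obtain ⟨k, hk, hk'⟩ := isOfFinOrder_iff_pow_eq_one.1 hfo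
    exact Units.ext (eq_one_of_det_one _ hd k hk (by rw [← Units.val_pow_eq_pow_val, hk', Units.val_one]) v hv hfix)
  have hdet : ∀ γ ∈ Γ, (γ : Matrix (Fin 2) (Fin 2) ℤ).det = 1 ∨ (γ : Matrix (Fin 2) (Fin 2) ℤ).det = -1 :=
    fun γ _ => Int.isUnit_eq_one_or ((Matrix.isUnit_iff_isUnit_det _).1 γ.isUnit)
  by_cases hall : ∀ γ ∈ Γ, (γ : Matrix (Fin 2) (Fin 2) ℤ).det = 1
  · refine ⟨![1, 0], fun e => by simpa using congrFun e 0, fun γ hγ => ?_⟩
    rw [hone γ hγ (hall γ hγ), Units.val_one, Matrix.one_mulVec]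
  push Not at hall
  obtain ⟨g, hg, hgd⟩ := hall
  obtain ⟨v, hv, hfix⟩ := h g hg
  refine ⟨v, hv, fun γ hγ => ?_⟩
  rcases hdet γ hγ with hd | hd
  · rw [hone γ hγ hd, Units.val_one, Matrix.one_mulVec]
  · have h1 : g * γ = 1 := hone _ (Γ.mul_mem hg hγ) (by
      rw [Units.val_mul, Matrix.det_mul, (hdet g hg).resolve_left hgd, hd]; ring)
    calc (γ : Matrix (Fin 2) (Fin 2) ℤ) *ᵥ v = (γ : Matrix (Fin 2) (Fin 2) ℤ) *ᵥ ((g : Matrix (Fin 2) (Fin 2) ℤ) *ᵥ v) := by rw [hfix]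
      _ = v := by
          rw [Matrix.mulVec_mulVec, ← Units.val_mul, mul_eq_one_comm.1 h1, Units.val_one, Matrix.one_mulVec]

theorem exists_fixed_of_mod (Γ : Subgroup (GL (Fin 2) ℤ)) [Finite Γ] (d : ℕ) (hd : 6 < d)
    (w : Fin 2 → ZMod d) (hw : ∀ m : ℕ, 0 < m → m < d → m • w ≠ 0)
    (hfix : ∀ γ ∈ Γ, ((γ : Matrix (Fin 2) (Fin 2) ℤ).map (Int.castRingHom (ZMod d))) *ᵥ w = w) :
    ∃ v : Fin 2 → ℤ, v ≠ 0 ∧ ∀ γ ∈ Γ, (γ : Matrix (Fin 2) (Fin 2) ℤ) *ᵥ v = v := by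
  haveI : NeZero d := ⟨by omega⟩
  refine exists_fixed Γ fun γ hγ => ?_
  obtain ⟨A, hA⟩ : ∃ A, A = (γ : Matrix (Fin 2) (Fin 2) ℤ) := ⟨_, rfl⟩
  rw [← hA]
  set π := Int.castRingHom (ZMod d)
  have hz : ((A - 1).map π) *ᵥ w = 0 := by
    rw [Matrix.map_sub, Matrix.map_one, Matrix.sub_mulVec, hA, hfix γ hγ, Matrix.one_mulVec, sub_self] <;> simp
  have h1 : ((A - 1).det : ZMod d) • w = 0 := by
    have := congrArg (((A - 1).map π).adjugate *ᵥ ·) hz
    simp only [Matrix.mulVec_mulVec, Matrix.adjugate_mul, Matrix.smul_mulVec, Matrix.one_mulVec, Matrix.mulVec_zero] at this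
    rwa [show ((A - 1).map π).det = π (A - 1).det from (RingHom.map_det π _).symm] at this
  have h2 : ((A - 1).det : ZMod d) = 0 := by
    by_contra hne
    refine hw ((A - 1).det : ZMod d).val (Nat.pos_of_ne_zero fun e => hne ((ZMod.val_eq_zero _).1 e)) (ZMod.val_lt _) ?_
    rw [← Nat.cast_smul_eq_nsmul (ZMod d), ZMod.natCast_zmod_val]
    exact h1
  have hfo : IsOfFinOrder γ := Submonoid.isOfFinOrder_coe.2 (isOfFinOrder_of_finite (⟨γ, hγ⟩ : Γ))
  obtain ⟨k, hk, hk'⟩ := isOfFinOrder_iff_pow_eq_one.1 hfo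
  have hdet : A.det = 1 ∨ A.det = -1 := Int.isUnit_eq_one_or ((Matrix.isUnit_iff_isUnit_det _).1 (hA ▸ γ.isUnit))
  have hk'' : A ^ k = 1 := by rw [hA, ← Units.val_pow_eq_pow_val, hk', Units.val_one]
  have ht := abs_le.1 (abs_trace_le A hdet k hk hk'')
  have hzero : (A - 1).det = 0 := Int.eq_zero_of_abs_lt_dvd ((ZMod.intCast_zmod_eq_zero_iff_dvd _ _).1 h2) (by
    rw [det_sub_one, abs_lt]
    omega)
  obtain ⟨v, hv, hv'⟩ := Matrix.exists_mulVec_eq_zero_iff.2 hzero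
  exact ⟨v, hv, by rwa [Matrix.sub_mulVec, Matrix.one_mulVec, sub_eq_zero] at hv'⟩

end Groth.Agent.BddFinLib
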