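import Mathlib.LinearAlgebra.Dimension.Finrank
import Mathlib.LinearAlgebra.FiniteDimensional.Lemmas
import Mathlib.LinearAlgebra.Projection
import Mathlib.Tactic

/-!
# Commuting involutions of a vector space
-/

namespace Groth.Agent.BddFinLib

universe u v

variable {K : Type u} [Field K]

theorem card_le_two_pow (h2 : (2 : K) ≠ 0) (n : ℕ) {V : Type v} [AddCommGroup V] [Module K V]
    [FiniteDimensional K V] (hn : Module.finrank K V = n) (S : Set (Module.End K V)) (hS : Finite S)
    (hsq : ∀ g ∈ S, g * g = 1) (hcomm : ∀ g ∈ S, ∀ h ∈ S, g * h = h * g) :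
    Nat.card S ≤ 2 ^ n := by
  classical
  induction n using Nat.strong_induction_on generalizing V with
  | _ n ih =>
  rcases subsingleton_or_nontrivial V with hV | hV
  · haveI : Subsingleton (Module.End K V) := ⟨fun f g => LinearMap.ext fun x => Subsingleton.elim _ _⟩
    exact (Finite.card_le_one_iff_subsingleton.2 inferInstance).trans (Nat.one_le_two_pow)
  have hn1 : 1 ≤ n := hn ▸ Module.finrank_pos
  by_cases hall : ∀ g ∈ S, g = 1 ∨ g = -1
  · calc Nat.card S ≤ Nat.card ({1, -1} : Set (Module.End K V)) := by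
          rw [Nat.card_coe_set_eq, Nat.card_coe_set_eq]
          exact Set.ncard_le_ncard (fun g hg => by simpa using hall g hg) (Set.toFinite _)
      _ ≤ 2 := by rw [Nat.card_coe_set_eq]; exact (Set.ncard_insert_le _ _).trans (by simp)
      _ ≤ 2 ^ n := by simpa using Nat.pow_le_pow_right two_pos hn1
  push Not at hall
  obtain ⟨g, hg, hg1, hg2⟩ := hall
  let P : Submodule K V := LinearMap.ker (g - 1)
  let M : Submodule K V := LinearMap.ker (g + 1)
  have hgg : ∀ v, g (g v) = v := fun v => LinearMap.congr_fun (hsq g hg) v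
  have memP : ∀ v, v ∈ P ↔ g v = v := fun v => by simp [P, sub_eq_zero]
  have memM : ∀ v, v ∈ M ↔ g v = -v := fun v => by simp [M, add_eq_zero_iff_eq_neg]
  have hcompl : IsCompl P M := by
    constructor
    · rw [Submodule.disjoint_def]
      intro v hv hv'
      rw [memP] at hv; rw [memM, hv] at hv'
      have : (2 : K) • v = 0 := by rw [two_smul]; exact add_eq_zero_iff_eq_neg.2 hv'
      exact (smul_eq_zero.1 this).resolve_left h2
    · rw [codisjoint_iff_le_sup]
      intro v _
      refine Submodule.mem_sup.2 ⟨(2 : K)⁻¹ • (v + g v), (memP _).2 ?_, (2 : K)⁻¹ • (v - g v), (memM _).2 ?_, ?_⟩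
      · rw [map_smul, map_add, hgg, add_comm]
      · rw [map_smul, map_sub, hgg, ← smul_neg, neg_sub]
      · rw [← smul_add, show v + g v + (v - g v) = (2 : K) • v by rw [two_smul]; abel, smul_smul,
          inv_mul_cancel₀ h2, one_smul]
  have hdim := Submodule.finrank_add_eq_of_isCompl hcompl
  have hPlt : Module.finrank K P < n := by
    refine hn ▸ Submodule.finrank_lt fun h => hg1 (LinearMap.ext fun v => ?_)
    exact (memP v).1 (h ▸ Submodule.mem_top)
  have hMlt : Module.finrank K M < n := by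
    refine hn ▸ Submodule.finrank_lt fun h => hg2 (LinearMap.ext fun v => ?_)
    exact (memM v).1 (h ▸ Submodule.mem_top)
  have invP : ∀ h ∈ S, ∀ v ∈ P, h v ∈ P := fun h hh v hv => by
    rw [memP] at hv ⊢
    rw [show g (h v) = h (g v) from LinearMap.congr_fun (hcomm g hg h hh) v, hv]
  have invM : ∀ h ∈ S, ∀ v ∈ M, h v ∈ M := fun h hh v hv => by
    rw [memM] at hv ⊢
    rw [show g (h v) = h (g v) from LinearMap.congr_fun (hcomm g hg h hh) v, hv, map_neg]
  let rP : S → Module.End K P := fun h => (h : Module.End K V).restrict (invP h h.2)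
  let rM : S → Module.End K M := fun h => (h : Module.End K V).restrict (invM h h.2)
  have hP := ih _ hPlt (V := P) rfl (Set.range rP) inferInstance
    (by rintro _ ⟨h, rfl⟩; refine LinearMap.ext fun v => Subtype.ext ?_; exact LinearMap.congr_fun (hsq h h.2) v.1)
    (by rintro _ ⟨h, rfl⟩ _ ⟨h', rfl⟩; refine LinearMap.ext fun v => Subtype.ext ?_
        exact LinearMap.congr_fun (hcomm h h.2 h' h'.2) v.1)
  have hM := ih _ hMlt (V := M) rfl (Set.range rM) inferInstance
    (by rintro _ ⟨h, rfl⟩; refine LinearMap.ext fun v => Subtype.ext ?_; exact LinearMap.congr_fun (hsq h h.2) v.1)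
    (by rintro _ ⟨h, rfl⟩ _ ⟨h', rfl⟩; refine LinearMap.ext fun v => Subtype.ext ?_
        exact LinearMap.congr_fun (hcomm h h.2 h' h'.2) v.1)
  have hinj : Function.Injective fun h : S => ((⟨rP h, h, rfl⟩ : Set.range rP), (⟨rM h, h, rfl⟩ : Set.range rM)) := by
    intro a b e
    obtain ⟨e1, e2⟩ : rP a = rP b ∧ rM a = rM b :=
      ⟨congrArg (fun x => x.1.1) e, congrArg (fun x => x.2.1) e⟩
    refine Subtype.ext (LinearMap.ext fun v => ?_)
    obtain ⟨p, hp, m, hm, rfl⟩ := Submodule.mem_sup.1 (hcompl.sup_eq_top ▸ Submodule.mem_top : v ∈ P ⊔ M)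
    rw [map_add, map_add]
    congr 1
    · exact congrArg Subtype.val (LinearMap.congr_fun e1 ⟨p, hp⟩)
    · exact congrArg Subtype.val (LinearMap.congr_fun e2 ⟨m, hm⟩)
  have h1 := Nat.card_le_card_of_injective _ hinj
  rw [Nat.card_prod] at h1
  refine h1.trans ((Nat.mul_le_mul hP hM).trans ?_)
  rw [← pow_add, hdim, hn]

end Groth.Agent.BddFinLib
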