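import Mathlib.LinearAlgebra.QuadraticForm.Basic
import Mathlib.RingTheory.Nilpotent.Defs
import Mathlib.Tactic

/-!
# Unipotent isometries of anisotropic forms
-/

universe u v

namespace Groth.Agent.BddFinLib

variable {K : Type u} [Field K] {V : Type v} [AddCommGroup V] [Module K V] {q : QuadraticForm K V}

theorem isometry_sub_one_sq_eq_zero (h2 : (2 : K) ≠ 0) (hq : q.Anisotropic) (f : V →ₗ[K] V)
    (hf : ∀ x, q (f x) = q x) {x : V} (hx : f (f x - x) = f x - x) : f x = x := by
  set y := f x - x with hy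
  have e1 : f x = x + y := by rw [hy]; abel
  have e2 : f (x + y) = x + y + y := by rw [map_add, hx, e1]
  have h1 : q x + q y + QuadraticMap.polar q x y = q x := by
    rw [← QuadraticMap.map_add (⇑q) x y, ← e1, hf]
  have h3 : q (x + y + y) = q x := by rw [← e2, hf, ← e1, hf]
  rw [QuadraticMap.map_add (⇑q) (x + y) y, QuadraticMap.map_add (⇑q) x y, QuadraticMap.polar_add_left, QuadraticMap.polar_self] at h3
  have h4 : 2 * q y = 0 := by
    linear_combination h3 - 2 * h1
  have := hq y ((mul_eq_zero.1 h4).resolve_left h2)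
  rw [e1, this, add_zero]

theorem eq_one_of_isNilpotent_sub_one (h2 : (2 : K) ≠ 0) (hq : q.Anisotropic) (f : Module.End K V)
    (hf : ∀ x, q (f x) = q x) (hn : IsNilpotent (f - 1)) : f = 1 := by
  obtain ⟨N, hN⟩ := hn
  induction N with
  | zero =>
    rw [pow_zero] at hN
    exact LinearMap.ext fun x => by
      have hx : (1 : Module.End K V) x = 0 := by rw [hN]; rfl
      change x = 0 at hx
      simp [hx]
  | succ N ih =>
    rcases Nat.eq_zero_or_pos N with rfl | h0
    · rwa [zero_add, pow_one, sub_eq_zero] at hN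
    refine ih ?_
    obtain ⟨M, rfl⟩ : ∃ M, N = M + 1 := ⟨N - 1, by omega⟩
    refine LinearMap.ext fun v => ?_
    have h : (f - 1) ((f - 1) (((f - 1) ^ M) v)) = 0 := by
      have e : (f - 1) * ((f - 1) * (f - 1) ^ M) = 0 := by rw [← pow_succ', ← pow_succ', hN]
      exact LinearMap.congr_fun e v
    rw [pow_succ', Module.End.mul_apply]
    simp only [LinearMap.sub_apply, Module.End.one_apply, sub_eq_zero] at h
    show f (((f - 1) ^ M) v) - ((f - 1) ^ M) v = 0
    exact sub_eq_zero.2 (isometry_sub_one_sq_eq_zero h2 hq f hf h)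

end Groth.Agent.BddFinLib
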