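import Groth.Agent.CSA.SeparableElement
import Mathlib.LinearAlgebra.Eigenspace.Minpoly
import Mathlib.LinearAlgebra.Eigenspace.Basic
import Mathlib.LinearAlgebra.Eigenspace.Charpoly
import Mathlib.LinearAlgebra.Charpoly.BaseChange
import Mathlib.FieldTheory.IsAlgClosed.AlgebraicClosure
import Mathlib.RingTheory.Polynomial.UniqueFactorization
import Mathlib.Tactic

/-!
# Elements of central simple algebras with a central power, over a field with all roots of unity
-/

open Polynomial

namespace Groth.Agent.BddFinLib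

universe u v

variable {K : Type u} [Field K]

/-- The common degree of the roots of `X ^ m - c`. -/
theorem exists_kummer_degree (hK : ∀ n : ℕ, 0 < n → (X ^ n - 1 : K[X]).Splits) {m : ℕ} (hm : 0 < m)
    {c : K} (hc : c ≠ 0) :
    ∃ r, 0 < r ∧ ∀ α : AlgebraicClosure K, α ^ m = algebraMap K _ c →
      ∃ a : K, minpoly K α = X ^ r - C a := by
  classical
  let L := AlgebraicClosure K
  have hroot : ∀ ζ : L, ζ ^ m = 1 → ζ ∈ (algebraMap K L).range := by
    intro ζ hζ
    refine (hK m hm).mem_range_of_isRoot (i := algebraMap K L) ?_ ?_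
    · simpa using X_pow_sub_C_ne_zero hm (1 : K)
    · simp [IsRoot, hζ]
  obtain ⟨α₀, hα₀⟩ := IsAlgClosed.exists_pow_nat_eq (k := L) (algebraMap K L c) hm
  have hc' : algebraMap K L c ≠ 0 := fun h => hc ((algebraMap K L).injective (h.trans (map_zero _).symm))
  have hα₀0 : α₀ ≠ 0 := by rintro rfl; rw [zero_pow hm.ne'] at hα₀; exact hc' hα₀.symm
  have hex : ∃ r, 0 < r ∧ α₀ ^ r ∈ (algebraMap K L).range := ⟨m, hm, c, hα₀.symm⟩
  refine ⟨Nat.find hex, (Nat.find_spec hex).1, fun α hα => ?_⟩
  obtain ⟨hr, hmem⟩ := Nat.find_spec hex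
  set r := Nat.find hex
  obtain ⟨ζ, hζm, hζ⟩ : ∃ ζ : L, ζ ^ m = 1 ∧ α = α₀ * ζ :=
    ⟨α / α₀, by rw [div_pow, hα, hα₀, div_self hc'], by field_simp⟩
  obtain ⟨z, hz⟩ := hroot ζ hζm
  have hz0 : z ≠ 0 := by rintro rfl; rw [map_zero] at hz; subst hz; simp [zero_pow hm.ne'] at hζm
  have hiff : ∀ j, α ^ j ∈ (algebraMap K L).range ↔ α₀ ^ j ∈ (algebraMap K L).range := by
    intro j
    rw [hζ, mul_pow, ← hz]
    constructor
    · rintro ⟨w, hw⟩
      exact ⟨w / z ^ j, by
        rw [map_div₀, hw, map_pow, mul_div_assoc, div_self (pow_ne_zero _ (by simpa using hz0)), mul_one]⟩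
    · rintro ⟨w, hw⟩
      exact ⟨w * z ^ j, by rw [map_mul, hw, map_pow]⟩
  obtain ⟨a, ha⟩ := (hiff r).2 hmem
  refine ⟨a, ?_⟩
  have hint : IsIntegral K α := Algebra.IsIntegral.isIntegral α
  let g := minpoly K α
  have hdvd : g ∣ X ^ r - C a := minpoly.dvd K α (by simp [ha, L])
  refine (eq_of_monic_of_dvd_of_natDegree_le (minpoly.monic hint) (monic_X_pow_sub_C a hr.ne') hdvd ?_).symm
  rw [natDegree_X_pow_sub_C]
  refine Nat.find_min' hex ⟨minpoly.natDegree_pos hint, (hiff _).1 ?_⟩
  have hα0 : α ≠ 0 := by rintro rfl; rw [zero_pow hm.ne'] at hα; exact hc' hα.symm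
  have hsp : (g.map (algebraMap K L)).Splits := IsAlgClosed.splits _
  have hall : ∀ β ∈ (g.map (algebraMap K L)).roots, β / α ∈ (algebraMap K L).range := by
    intro β hβ
    refine hroot _ ?_
    have hβ0 : aeval β g = 0 := by
      have := (isRoot_of_mem_roots hβ)
      rwa [IsRoot, eval_map_algebraMap] at this
    have h1 : aeval β (X ^ m - C c : K[X]) = 0 :=
      aeval_eq_zero_of_dvd_aeval_eq_zero (minpoly.dvd K α (by simp [hα])) hβ0
    rw [map_sub, map_pow, aeval_X, aeval_C, sub_eq_zero] at h1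
    rw [div_pow, h1, hα, div_self hc']
  have hprod : ((g.map (algebraMap K L)).roots.map fun β => β / α).prod ∈ (algebraMap K L).range :=
    Subring.multiset_prod_mem _ _ (fun y hy => by obtain ⟨β, hβ, rfl⟩ := Multiset.mem_map.1 hy; exact hall β hβ)
  have hcard : (g.map (algebraMap K L)).roots.card = g.natDegree := by
    rw [splits_iff_card_roots.1 hsp, natDegree_map]
  rw [Multiset.prod_map_div, Multiset.map_id', Multiset.map_const', Multiset.prod_replicate, hcard] at hprod
  have h0 : (g.map (algebraMap K L)).coeff 0 = (-1) ^ g.natDegree * (g.map (algebraMap K L)).roots.prod := by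
    rw [hsp.coeff_zero_eq_prod_roots_of_monic ((minpoly.monic hint).map _), natDegree_map]
  obtain ⟨w, hw⟩ := hprod
  have hg0 : g.coeff 0 ≠ 0 := minpoly.coeff_zero_ne_zero hint hα0
  rw [coeff_map] at h0
  have hprod0 : (g.map (algebraMap K L)).roots.prod ≠ 0 := by
    intro h
    rw [h, mul_zero] at h0
    exact hg0 ((algebraMap K L).injective (h0.trans (map_zero _).symm))
  have hsq : ((-1 : L) ^ g.natDegree) * (-1) ^ g.natDegree = 1 := by rw [← mul_pow, neg_one_mul, neg_neg, one_pow]
  refine ⟨(-1) ^ g.natDegree * g.coeff 0 / w, ?_⟩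
  rw [map_div₀, map_mul, h0, hw, map_pow, map_neg, map_one, ← mul_assoc, hsq, one_mul, div_div_eq_mul_div,
    mul_div_cancel_left₀ _ hprod0]

variable {A : Type v} [Ring A] [Algebra K A]

open Groth.Agent.CSA in
/-- The reduced characteristic polynomial and the minimal polynomial of an element with a central
power. -/
theorem exists_degree [IsCSA K A] (hK : ∀ n : ℕ, 0 < n → (X ^ n - 1 : K[X]).Splits)
    (x : A) {m : ℕ} (hm : 0 < m) {c : K} (hc : c ≠ 0) (hx : x ^ m = algebraMap K A c) :
    ∃ r : ℕ, 0 < r ∧ r ∣ deg K A ∧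
      (∃ s : Multiset K, minpoly K x = (s.map fun a : K => X ^ r - C a).prod) ∧
      (∀ g : K[X], g.Monic → Irreducible g → g ∣ rcharpoly K x → ∃ a : K, g = X ^ r - C a) := by
  classical
  obtain ⟨r, hr, hkum⟩ := exists_kummer_degree hK hm hc
  let L := AlgebraicClosure K
  have hfac : ∀ g : K[X], g.Monic → Irreducible g → g ∣ X ^ m - C c → ∃ a, g = X ^ r - C a := by
    intro g hg hgi hgd
    obtain ⟨α, hα⟩ := IsAlgClosed.exists_aeval_eq_zero L g (degree_pos_of_irreducible hgi).ne'
    have h1 := aeval_eq_zero_of_dvd_aeval_eq_zero hgd hα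
    rw [map_sub, map_pow, aeval_X, aeval_C, sub_eq_zero] at h1
    obtain ⟨a, ha⟩ := hkum α h1
    exact ⟨a, by rw [← ha, minpoly.eq_of_irreducible_of_monic hgi hα hg]⟩
  have hP : ∀ g : K[X], g.Monic → Irreducible g → g ∣ rcharpoly K x → ∃ a, g = X ^ r - C a := by
    intro g hg hgi hgd
    obtain ⟨β, hβ⟩ := IsAlgClosed.exists_aeval_eq_zero L g (degree_pos_of_irreducible hgi).ne'
    have hcp : g ∣ (LinearMap.mulLeft K x).charpoly := by
      rw [charpoly_mulLeft]
      exact hgd.trans (dvd_pow_self _ (deg_pos K A).ne')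
    have hev : Module.End.HasEigenvalue ((LinearMap.mulLeft K x).baseChange L) β := by
      rw [Module.End.hasEigenvalue_iff_isRoot_charpoly, LinearMap.charpoly_baseChange, IsRoot, eval_map_algebraMap]
      exact aeval_eq_zero_of_dvd_aeval_eq_zero hcp hβ
    obtain ⟨v, hv⟩ := hev.exists_hasEigenvector
    have h2 := Module.End.aeval_apply_of_hasEigenvector (p := X ^ m - C (algebraMap K L c)) hv
    have hpow : ((LinearMap.mulLeft K x).baseChange L) ^ m = algebraMap L (Module.End L _) (algebraMap K L c) := by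
      have h3 : (LinearMap.mulLeft K x) ^ m = algebraMap K (Module.End K A) c := by
        rw [LinearMap.pow_mulLeft, hx]
        exact LinearMap.ext fun y => (Algebra.smul_def c y).symm
      rw [← LinearMap.baseChange_pow, h3]
      refine TensorProduct.AlgebraTensorModule.ext fun l y => ?_
      rw [LinearMap.baseChange_tmul, Module.algebraMap_end_apply, Module.algebraMap_end_apply, TensorProduct.smul_tmul',
        TensorProduct.tmul_smul, TensorProduct.smul_tmul', smul_eq_mul, Algebra.smul_def]
    rw [map_sub, map_pow, aeval_X, aeval_C, hpow, sub_self, LinearMap.zero_apply, eval_sub, eval_pow, eval_X,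
      eval_C] at h2
    have h4 : β ^ m = algebraMap K L c := sub_eq_zero.1 ((smul_eq_zero.1 h2.symm).resolve_right hv.2)
    obtain ⟨a, ha⟩ := hkum β h4
    exact ⟨a, by rw [← ha, minpoly.eq_of_irreducible_of_monic hgi hβ hg]⟩
  have hsplit : ∀ f : K[X], f.Monic → (∀ g : K[X], g.Monic → Irreducible g → g ∣ f → ∃ a, g = X ^ r - C a) →
      ∃ s : Multiset K, f = (s.map fun a : K => X ^ r - C a).prod := by
    intro f hf hall
    refine ⟨(UniqueFactorizationMonoid.normalizedFactors f).map fun g => -g.coeff 0, ?_⟩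
    have hmon : ∀ g ∈ UniqueFactorizationMonoid.normalizedFactors f, g.Monic := by
      intro g hg
      have h1 := monic_normalize (UniqueFactorizationMonoid.irreducible_of_normalized_factor g hg).ne_zero
      rwa [UniqueFactorizationMonoid.normalize_normalized_factor g hg] at h1
    have h1 : ((UniqueFactorizationMonoid.normalizedFactors f).map fun g => -g.coeff 0).map
        (fun a : K => X ^ r - C a) = UniqueFactorizationMonoid.normalizedFactors f := by
      rw [Multiset.map_map]
      conv_rhs => rw [← Multiset.map_id (UniqueFactorizationMonoid.normalizedFactors f)]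
      refine Multiset.map_congr rfl fun g hg => ?_
      obtain ⟨a, rfl⟩ := hall g (hmon g hg) (UniqueFactorizationMonoid.irreducible_of_normalized_factor g hg)
        (UniqueFactorizationMonoid.dvd_of_mem_normalizedFactors hg)
      simp [coeff_X_pow, hr.ne]
    rw [h1]
    exact (eq_of_monic_of_associated (by simpa using monic_multiset_prod_of_monic _ (fun g => g) hmon) hf
      (UniqueFactorizationMonoid.prod_normalizedFactors hf.ne_zero)).symm
  obtain ⟨s, hs⟩ := hsplit _ (rcharpoly_monic x) hP
  refine ⟨r, hr, ⟨s.card, ?_⟩, hsplit _ (minpoly.monic (Algebra.IsIntegral.isIntegral x)) fun g hg hgi hgd =>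
    hfac g hg hgi (hgd.trans (minpoly.dvd K x (by simp [hx]))), hP⟩
  rw [← rcharpoly_natDegree x, hs, natDegree_multiset_prod_of_monic _ (fun g hg => by
    obtain ⟨a, _, rfl⟩ := Multiset.mem_map.1 hg
    exact monic_X_pow_sub_C a hr.ne'), Multiset.map_map]
  simp [Function.comp_def, Multiset.map_const', natDegree_X_pow_sub_C, mul_comm]

end Groth.Agent.BddFinLib
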