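import Mathlib.LinearAlgebra.Matrix.GeneralLinearGroup.Defs
import Mathlib.GroupTheory.OrderOfElement
import Mathlib.Data.ZMod.Basic
import Mathlib.Data.Fintype.Pi
import Mathlib.Data.Matrix.Basic
import Mathlib.Algebra.CharP.Basic
import Mathlib.RingTheory.Multiplicity
import Mathlib.Tactic

/-!
# Minkowski's lemma: torsion in `GL_n(ℤ)` is detected modulo `3`
-/

open Matrix

namespace Groth.Agent.BddFinLib

variable {n : ℕ}

theorem step (B : Matrix (Fin n) (Fin n) ℤ) (l : ℕ) (hl : l.Prime) (a : ℕ) (ha : 0 < a)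
    (N : Matrix (Fin n) (Fin n) ℤ) (hB : B = 1 + (3 : ℤ) ^ a • N) (h : B ^ l = 1) :
    ∃ N', N = (3 : ℤ) • N' := by
  have hexp : ∀ j : ℕ, ∃ R : Matrix (Fin n) (Fin n) ℤ,
      (1 + (3 : ℤ) ^ a • N) ^ j = 1 + ((j : ℤ) * 3 ^ a) • N + ((3 : ℤ) ^ (2 * a)) • R := by
    intro j
    induction j with
    | zero => exact ⟨0, by simp⟩
    | succ j ih =>
      obtain ⟨R, hR⟩ := ih
      refine ⟨R + (j : ℤ) • (N * N) + (3 : ℤ) ^ a • (R * N), ?_⟩
      rw [pow_succ, hR]
      simp only [mul_add, add_mul, mul_one, one_mul, smul_mul_assoc, mul_smul_comm, smul_smul, smul_add, Nat.cast_succ]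
      module
  suffices hdvd : ∀ i j, (3 : ℤ) ∣ N i j from
    ⟨fun i j => N i j / 3, funext fun i => funext fun j => (Int.mul_ediv_cancel' (hdvd i j)).symm⟩
  intro i j
  have h3 : Prime (3 : ℤ) := Int.prime_three
  rcases eq_or_ne l 3 with rfl | hl3
  · have e : ((3 : ℤ) ^ (a + 1)) • N + ((3 : ℤ) ^ (2 * a + 1)) • (N * N) + ((3 : ℤ) ^ (3 * a)) • (N * N * N) = 0 := by
      rw [hB] at h
      have : (1 + (3 : ℤ) ^ a • N) ^ 3 = 1 + ((3 : ℤ) ^ (a + 1)) • N + ((3 : ℤ) ^ (2 * a + 1)) • (N * N) + ((3 : ℤ) ^ (3 * a)) • (N * N * N) := by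
        simp only [pow_succ, pow_zero, one_mul, mul_add, add_mul, mul_one, smul_mul_assoc, mul_smul_comm, smul_smul, smul_add]
        module
      rw [h] at this
      rw [add_assoc, add_assoc] at this
      rw [add_assoc]
      exact left_eq_add.1 this
    have e' := congrFun (congrFun e i) j
    simp only [Matrix.add_apply, Matrix.smul_apply, Matrix.zero_apply, Pi.zero_apply, smul_eq_mul] at e'
    obtain ⟨b, rfl⟩ : ∃ b, a = b + 1 := ⟨a - 1, by omega⟩
    have : (3 : ℤ) ^ (b + 2) * (N i j + 3 ^ (b + 1) * (N * N) i j + 3 ^ (2 * b + 1) * (N * N * N) i j) = 0 := by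
      linear_combination e'
    have hz := (mul_eq_zero.1 this).resolve_left (pow_ne_zero _ three_ne_zero)
    exact ⟨-(3 ^ b * (N * N) i j + 3 ^ (2 * b) * (N * N * N) i j), by linear_combination hz⟩
  · obtain ⟨R, hR⟩ := hexp l
    rw [← hB, h] at hR
    rw [add_assoc] at hR
    have e' := congrFun (congrFun (left_eq_add.1 hR) i) j
    simp only [Matrix.add_apply, Matrix.smul_apply, Matrix.zero_apply, Pi.zero_apply, smul_eq_mul] at e'
    have : (3 : ℤ) ^ a * ((l : ℤ) * N i j + 3 ^ a * R i j) = 0 := by linear_combination e'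
    have hz := (mul_eq_zero.1 this).resolve_left (pow_ne_zero _ three_ne_zero)
    have hd : (3 : ℤ) ∣ (l : ℤ) * N i j := by
      rw [show (l : ℤ) * N i j = -(3 ^ a * R i j) by linarith]
      exact ((dvd_pow_self _ ha.ne').mul_right _).neg_right
    refine (h3.dvd_or_dvd hd).resolve_left fun h' => hl3 ?_
    exact ((Nat.prime_dvd_prime_iff_eq Nat.prime_three hl).1 (by exact_mod_cast h')).symm

theorem eq_one_of_congr (B : GL (Fin n) ℤ) (hB : IsOfFinOrder B)
    (hmod : ∀ i j, (3 : ℤ) ∣ ((B : Matrix (Fin n) (Fin n) ℤ) - 1) i j) : B = 1 := by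
  have hdvd : ∀ (A : Matrix (Fin n) (Fin n) ℤ) (l : ℕ), l.Prime → A ^ l = 1 → (∀ i j, (3 : ℤ) ∣ (A - 1) i j) → A = 1 := by
    intro A l hl hAl hA
    have hall : ∀ a, 0 < a → ∀ i j, (3 : ℤ) ^ a ∣ (A - 1) i j := by
      intro a ha
      induction a with
      | zero => omega
      | succ a ih =>
        rcases Nat.eq_zero_or_pos a with rfl | h0
        · simpa using hA
        have h1 := ih h0
        let N : Matrix (Fin n) (Fin n) ℤ := fun i j => (A - 1) i j / 3 ^ a
        have hN : A = 1 + (3 : ℤ) ^ a • N := by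
          ext i j
          show A i j = (1 : Matrix (Fin n) (Fin n) ℤ) i j + 3 ^ a * ((A - 1) i j / 3 ^ a)
          rw [Int.mul_ediv_cancel' (h1 i j), Matrix.sub_apply]
          ring
        obtain ⟨N', hN'⟩ := step A l hl a h0 N hN hAl
        intro i j
        refine ⟨N' i j, ?_⟩
        rw [hN, add_sub_cancel_left, hN', smul_smul, ← pow_succ]
        rfl
    ext i j
    by_contra hne
    obtain ⟨a, ha⟩ : ∃ a : ℕ, ((A - 1) i j).natAbs < 3 ^ a := ⟨_, Nat.lt_pow_self (by norm_num : 1 < 3)⟩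
    have h0 : (A - 1) i j = 0 := by
      refine Int.eq_zero_of_abs_lt_dvd (m := 3 ^ (a + 1)) (hall (a + 1) (by omega) i j) ?_
      rw [← Int.natCast_natAbs]
      calc (((A - 1) i j).natAbs : ℤ) < (3 ^ a : ℕ) := by exact_mod_cast ha
        _ ≤ 3 ^ (a + 1) := by push_cast; exact pow_le_pow_right₀ (by norm_num) (by omega)
    rw [Matrix.sub_apply, sub_eq_zero] at h0
    exact hne h0
  obtain ⟨m, hm⟩ : ∃ m, m = orderOf B := ⟨_, rfl⟩
  induction m using Nat.strong_induction_on generalizing B with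
  | _ m ih =>
    rcases eq_or_ne m 1 with rfl | h1
    · exact orderOf_eq_one_iff.1 hm.symm
    obtain ⟨l, hl, hlm⟩ := Nat.exists_prime_and_dvd h1
    have hpos : 0 < m := hm ▸ hB.orderOf_pos
    have hBl : B ^ l = 1 := by
      refine ih (orderOf (B ^ l)) ?_ (B ^ l) hB.pow ?_ rfl
      · rw [orderOf_pow' _ hl.ne_zero, ← hm, Nat.gcd_eq_right hlm]
        exact Nat.div_lt_self hpos hl.one_lt
      · intro i j
        rw [Units.val_pow_eq_pow_val]
        have hmap : ((B : Matrix (Fin n) (Fin n) ℤ).map (Int.castRingHom (ZMod 3))) = 1 := by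
          ext a b
          have := (ZMod.intCast_zmod_eq_zero_iff_dvd _ 3).2 (hmod a b)
          rw [Matrix.sub_apply, Int.cast_sub, sub_eq_zero] at this
          rcases eq_or_ne a b with rfl | hab
          · simpa using this
          · simpa [Matrix.one_apply_ne hab] using this
        refine (ZMod.intCast_zmod_eq_zero_iff_dvd _ 3).1 ?_
        have h' : (Int.castRingHom (ZMod 3)).mapMatrix (((B : Matrix (Fin n) (Fin n) ℤ) ^ l) - 1) = 0 := by
          rw [map_sub, map_pow, map_one, RingHom.mapMatrix_apply, hmap, one_pow, sub_self]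
        exact congrFun (congrFun h' i) j
    exact Units.ext (hdvd _ l hl (by rw [← Units.val_pow_eq_pow_val, hBl, Units.val_one]) hmod)

theorem card_bound (n : ℕ) : ∃ M : ℕ, ∀ H : Subgroup (GL (Fin n) ℤ), Finite H → Nat.card H ≤ M := by
  refine ⟨Nat.card (Matrix (Fin n) (Fin n) (ZMod 3)), fun H hH => ?_⟩
  haveI := hH
  let π := (Int.castRingHom (ZMod 3)).mapMatrix (m := Fin n)
  refine Nat.card_le_card_of_injective (fun g : H => π ((g : GL (Fin n) ℤ) : Matrix (Fin n) (Fin n) ℤ)) fun g g' e => ?_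
  have h1 : ((g⁻¹ * g' : H) : GL (Fin n) ℤ) = 1 := by
    refine eq_one_of_congr _ (Submonoid.isOfFinOrder_coe.2 (isOfFinOrder_of_finite (g⁻¹ * g' : H))) fun i j => ?_
    refine (ZMod.intCast_zmod_eq_zero_iff_dvd _ 3).1 ?_
    have h' : π ((((g⁻¹ * g' : H) : GL (Fin n) ℤ) : Matrix (Fin n) (Fin n) ℤ) - 1) = 0 := by
      dsimp only at e
      rw [Subgroup.coe_mul, Subgroup.coe_inv, Units.val_mul, map_sub, map_mul, ← e, ← map_mul, ← Units.val_mul,
        inv_mul_cancel, Units.val_one, map_one, sub_self]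
    exact congrFun (congrFun h' i) j
  rw [OneMemClass.coe_eq_one] at h1
  exact inv_mul_eq_one.1 h1

end Groth.Agent.BddFinLib
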